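import Groth.Agent.ResProp.EF.Grp
import Mathlib.RingTheory.Localization.Away.Basic
import Mathlib.RingTheory.Polynomial.Basic
import Mathlib.RingTheory.MvPolynomial.Basic
import Mathlib.LinearAlgebra.TensorProduct.RightExactness
import Mathlib.Algebra.Module.ZMod
import Mathlib.FieldTheory.Finite.Basic

/-!
# `RedModP` (S16912, G2b, helper274)

`RedP p A`: `p ∣ a ^ p → p ∣ a` (i.e. `A / p` is reduced).  It is stable under tensor products over a ring `k` with
`k / p = 𝔽_p` (no flatness) and holds for localizations of polynomial rings.  So `Grp.RedModP p H` follows from the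
first of its three clauses.
-/

set_option autoImplicit false

universe u

open TensorProduct

namespace Groth.Agent.ResProp.EF.K274

open Groth.Agent.ResProp.EF.Grp

/-- `A / p` is reduced -/
def RedP (p : ℕ) (A : Type*) [CommRing A] : Prop := ∀ a : A, (p : A) ∣ a ^ p → (p : A) ∣ a

section linear

variable {k : Type*} [CommRing k] {p : ℕ} (hres : ∀ x : k, ∃ n : ℤ, (p : k) ∣ x - n)

include hres

/-- additive maps of modules killed by `p` are linear over `k` if `k / p` is a prime field -/
lemma additive_smul {M N : Type*} [AddCommGroup M] [Module k M] [AddCommGroup N] [Module k N]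
    (hM : ∀ m : M, (p : k) • m = 0) (hN : ∀ m : N, (p : k) • m = 0) (g : M →+ N) (c : k) (m : M) :
    g (c • m) = c • g m := by
  obtain ⟨n, d, hd⟩ := hres c
  have hc : c = (n : k) + p * d := by rw [← hd]; ring
  have h1 : c • m = (n : k) • m := by
    rw [hc, add_smul, mul_comm, mul_smul, hM, smul_zero, add_zero]
  have h2 : c • g m = (n : k) • g m := by
    rw [hc, add_smul, mul_comm, mul_smul, hN, smul_zero, add_zero]
  rw [h1, h2, Int.cast_smul_eq_zsmul, Int.cast_smul_eq_zsmul, map_zsmul]

end linear

/-- Frobenius of a ring of characteristic `p` (or trivial) -/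
def frob {p : ℕ} (hp : p.Prime) {A : Type*} [CommRing A] (h : (p : A) = 0) : A →+ A where
  toFun a := a ^ p
  map_zero' := zero_pow hp.ne_zero
  map_add' a b := by
    rw [add_pow_prime_eq hp, h]; simp

/-- an injective additive map of groups killed by a prime has an additive left inverse -/
lemma exists_left_inverse {p : ℕ} (hp : p.Prime) {M N : Type*} [AddCommGroup M] [AddCommGroup N]
    (hM : ∀ m : M, p • m = 0) (hN : ∀ m : N, p • m = 0) (g : M →+ N) (hg : Function.Injective g) :
    ∃ l : N →+ M, ∀ m, l (g m) = m := by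
  have := Fact.mk hp
  let _ := AddCommGroup.zmodModule hM
  let _ := AddCommGroup.zmodModule hN
  obtain ⟨l, hl⟩ := (g.toZModLinearMap p).exists_leftInverse_of_injective
    (LinearMap.ker_eq_bot.2 hg)
  exact ⟨l.toAddMonoidHom, fun m => LinearMap.congr_fun hl m⟩

section tensor

variable {k : Type*} [CommRing k] {p : ℕ} (hp : p.Prime) (hres : ∀ x : k, ∃ n : ℤ, (p : k) ∣ x - n)

include hp hres

/-- `A` and `B` killed by `p`, with injective Frobenius: so is `A ⊗ B`. -/
lemma frob_injective_tensor {A B : Type*} [CommRing A] [CommRing B] [Algebra k A] [Algebra k B]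
    (hA : (p : A) = 0) (hB : (p : B) = 0) (fA : ∀ a : A, a ^ p = 0 → a = 0) (fB : ∀ a : B, a ^ p = 0 → a = 0)
    (z : A ⊗[k] B) (hz : z ^ p = 0) : z = 0 := by
  have hA' : ∀ a : A, (p : k) • a = 0 := fun a => by
    rw [Algebra.smul_def, map_natCast, hA, zero_mul]
  have hB' : ∀ a : B, (p : k) • a = 0 := fun a => by
    rw [Algebra.smul_def, map_natCast, hB, zero_mul]
  have hA'' : ∀ a : A, p • a = 0 := fun a => by rw [nsmul_eq_mul, hA, zero_mul]
  have hB'' : ∀ a : B, p • a = 0 := fun a => by rw [nsmul_eq_mul, hB, zero_mul]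
  have hC : (p : A ⊗[k] B) = 0 := by
    have : (p : A ⊗[k] B) = algebraMap k _ (p : k) := (map_natCast _ _).symm
    rw [this, Algebra.TensorProduct.algebraMap_apply, map_natCast, hA, TensorProduct.zero_tmul]
  obtain ⟨lA, hlA⟩ := exists_left_inverse hp hA'' hA'' (frob hp hA)
    ((injective_iff_map_eq_zero _).2 fA)
  obtain ⟨lB, hlB⟩ := exists_left_inverse hp hB'' hB'' (frob hp hB)
    ((injective_iff_map_eq_zero _).2 fB)
  let LA : A →ₗ[k] A := { lA with map_smul' := additive_smul hres hA' hA' lA }
  let LB : B →ₗ[k] B := { lB with map_smul' := additive_smul hres hB' hB' lB }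
  have key : ∀ w : A ⊗[k] B, TensorProduct.map LA LB (frob hp hC w) = w := by
    intro w
    induction w using TensorProduct.induction_on with
    | zero => rw [map_zero, map_zero]
    | tmul a b =>
      change TensorProduct.map LA LB ((a ⊗ₜ[k] b) ^ p) = _
      rw [Algebra.TensorProduct.tmul_pow, TensorProduct.map_tmul]
      exact congrArg₂ (· ⊗ₜ[k] ·) (hlA a) (hlB b)
    | add x y hx hy => rw [map_add, map_add, hx, hy]
  have := key z
  change TensorProduct.map LA LB (z ^ p) = z at this
  rw [hz, map_zero] at this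
  exact this.symm

/-- `RedP` is stable under tensor products. -/
theorem RedP.tensor {A B : Type*} [CommRing A] [CommRing B] [Algebra k A] [Algebra k B]
    (rA : RedP p A) (rB : RedP p B) : RedP p (A ⊗[k] B) := by
  intro z hz
  let IA : Ideal A := Ideal.span {(p : A)}
  let IB : Ideal B := Ideal.span {(p : B)}
  let f : A →ₐ[k] A ⧸ IA := Ideal.Quotient.mkₐ k IA
  let g : B →ₐ[k] B ⧸ IB := Ideal.Quotient.mkₐ k IB
  have hA : (p : A ⧸ IA) = 0 := by
    rw [← map_natCast (Ideal.Quotient.mk IA)]
    exact Ideal.Quotient.eq_zero_iff_mem.2 (Ideal.mem_span_singleton_self _)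
  have hB : (p : B ⧸ IB) = 0 := by
    rw [← map_natCast (Ideal.Quotient.mk IB)]
    exact Ideal.Quotient.eq_zero_iff_mem.2 (Ideal.mem_span_singleton_self _)
  have fA : ∀ a : A ⧸ IA, a ^ p = 0 → a = 0 := by
    intro a ha
    obtain ⟨a, rfl⟩ := Ideal.Quotient.mk_surjective a
    rw [← map_pow, Ideal.Quotient.eq_zero_iff_mem, Ideal.mem_span_singleton] at ha
    rw [Ideal.Quotient.eq_zero_iff_mem, Ideal.mem_span_singleton]
    exact rA a ha
  have fB : ∀ a : B ⧸ IB, a ^ p = 0 → a = 0 := by
    intro a ha
    obtain ⟨a, rfl⟩ := Ideal.Quotient.mk_surjective a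
    rw [← map_pow, Ideal.Quotient.eq_zero_iff_mem, Ideal.mem_span_singleton] at ha
    rw [Ideal.Quotient.eq_zero_iff_mem, Ideal.mem_span_singleton]
    exact rB a ha
  have hf : Function.Surjective f := Ideal.Quotient.mk_surjective
  have hg : Function.Surjective g := Ideal.Quotient.mk_surjective
  have hz0 : Algebra.TensorProduct.map f g z = 0 := by
    apply frob_injective_tensor hp hres hA hB fA fB
    rw [← map_pow]
    obtain ⟨w, hw⟩ := hz
    rw [hw, map_mul, map_natCast]
    have hC : (p : (A ⧸ IA) ⊗[k] (B ⧸ IB)) = 0 := by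
      have : (p : (A ⧸ IA) ⊗[k] (B ⧸ IB)) = algebraMap k _ (p : k) := (map_natCast _ _).symm
      rw [this, Algebra.TensorProduct.algebraMap_apply, map_natCast, hA, TensorProduct.zero_tmul]
    rw [hC, zero_mul]
  have hker : z ∈ RingHom.ker (Algebra.TensorProduct.map f g) := hz0
  rw [Algebra.TensorProduct.map_ker f g hf hg] at hker
  have hle : (RingHom.ker f).map (Algebra.TensorProduct.includeLeft : A →ₐ[k] A ⊗[k] B) ⊔
      (RingHom.ker g).map (Algebra.TensorProduct.includeRight : B →ₐ[k] A ⊗[k] B) ≤
        Ideal.span {(p : A ⊗[k] B)} := by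
    rw [sup_le_iff, Ideal.map_le_iff_le_comap, Ideal.map_le_iff_le_comap]
    constructor
    · intro a ha
      have ha' : a ∈ IA := Ideal.Quotient.eq_zero_iff_mem.1 ha
      obtain ⟨b, rfl⟩ := Ideal.mem_span_singleton.1 ha'
      rw [Ideal.mem_comap, map_mul, map_natCast]
      exact Ideal.mul_mem_right _ _ (Ideal.mem_span_singleton_self _)
    · intro a ha
      have ha' : a ∈ IB := Ideal.Quotient.eq_zero_iff_mem.1 ha
      obtain ⟨b, rfl⟩ := Ideal.mem_span_singleton.1 ha'
      rw [Ideal.mem_comap, map_mul, map_natCast]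
      exact Ideal.mul_mem_right _ _ (Ideal.mem_span_singleton_self _)
  exact Ideal.mem_span_singleton.1 (hle hker)

end tensor

/-- Localizations of rings in which `p` is prime. -/
theorem RedP.of_isLocalization {p : ℕ} {R A : Type*} [CommRing R] [CommRing A] [Algebra R A] (M : Submonoid R)
    [IsLocalization M A] (h : Prime (p : R)) : RedP p A := by
  intro a ha
  obtain ⟨⟨b, s⟩, hb⟩ := IsLocalization.surj M a
  dsimp only at hb
  have hb' : (p : A) ∣ algebraMap R A (b ^ p) := by
    rw [map_pow, ← hb, mul_pow]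
    exact ha.mul_right _
  obtain ⟨c, hc⟩ := hb'
  obtain ⟨⟨d, t⟩, hd⟩ := IsLocalization.surj M c
  dsimp only at hd
  have h1 : algebraMap R A (b ^ p * t) = algebraMap R A (p * d) := by
    rw [map_mul, hc, map_mul, map_natCast, ← hd, mul_assoc]
  obtain ⟨v, hv⟩ := (IsLocalization.eq_iff_exists M A).1 h1
  have h2 : (p : R) ∣ v * (b ^ p * t) := by
    rw [hv]
    exact ⟨v * d, by ring⟩
  have hunit : ∀ w : M, (p : R) ∣ w → (p : A) ∣ a := by
    intro w hw
    have hu : IsUnit (algebraMap R A w) := IsLocalization.map_units A w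
    have : (p : A) ∣ algebraMap R A w := by
      rw [← map_natCast (algebraMap R A)]
      exact map_dvd _ hw
    exact (isUnit_of_dvd_unit this hu).dvd
  rcases h.dvd_or_dvd h2 with h3 | h3
  · exact hunit v h3
  rcases h.dvd_or_dvd h3 with h4 | h4
  · have h5 := h.dvd_of_dvd_pow h4
    have h6 : (p : A) ∣ algebraMap R A b := by
      rw [← map_natCast (algebraMap R A)]
      exact map_dvd _ h5
    rw [← hb] at h6
    exact (IsLocalization.map_units A s).dvd_mul_right.1 h6
  · exact hunit t h4

/-- `p` is prime in `MvPolynomial σ k` if it is prime in `k`. -/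
lemma prime_mvPolynomial {p : ℕ} {k : Type*} [CommRing k] (σ : Type*) (h : Prime (p : k)) :
    Prime (p : MvPolynomial σ k) := by
  have := MvPolynomial.prime_C_iff (σ := σ) (r := (p : k)) |>.2 h
  rwa [map_natCast] at this

theorem RedP.of_mvPolynomial {p : ℕ} {k : Type*} [CommRing k] (h : Prime (p : k)) (σ : Type*) {A : Type*} [CommRing A]
    [Algebra (MvPolynomial σ k) A] (M : Submonoid (MvPolynomial σ k)) [IsLocalization M A] : RedP p A :=
  RedP.of_isLocalization M (prime_mvPolynomial σ h)

theorem RedP.of_ringEquiv {p : ℕ} {A B : Type*} [CommRing A] [CommRing B] (e : A ≃+* B) (h : RedP p A) : RedP p B := by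
  intro b hb
  have h1 : (p : A) ∣ e.symm b ^ p := by
    rw [← map_pow, ← map_natCast e.symm]
    exact map_dvd _ hb
  have h2 := h _ h1
  have h3 := map_dvd e h2
  rwa [map_natCast, e.apply_symm_apply] at h3

/-- `RedP` for a retract... of an injective pure map: if `A → B` with `B / p ⊇ A / p`. -/
theorem RedP.of_pure {p : ℕ} {A B : Type*} [CommRing A] [CommRing B] (f : A →+* B)
    (hf : ∀ a : A, (p : B) ∣ f a → (p : A) ∣ a) (h : RedP p B) : RedP p A := by
  intro a ha
  apply hf
  apply h
  rw [← map_pow, ← map_natCast f]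
  exact map_dvd _ ha

section lb

variable {p : ℕ} {k : Type u} [CommRing k] [hk : IsLb p k]

lemma prime_of_isLb : Prime (p : k) := by
  have := hk.dom
  have := hk.char0
  refine ⟨?_, hk.not_unit, fun a b h => ?_⟩
  · exact Nat.cast_ne_zero.2 hk.prime.ne_zero
  · by_contra hc
    push Not at hc
    obtain ⟨ha, hb⟩ := hc
    have hu : IsUnit (a * b) := (hk.unit_of a ha).mul (hk.unit_of b hb)
    exact hk.not_unit (isUnit_of_dvd_unit h hu)

/-- **`RedModP` follows from its first clause.** -/
theorem redModP_of_redP (H : Gp k) (h : RedP p H.O) : RedModP p H :=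
  ⟨h, RedP.tensor hk.prime hk.res h h, RedP.tensor hk.prime hk.res (RedP.tensor hk.prime hk.res h h) h⟩

/-- `RedModP` for a group whose coordinate ring is a localization of a polynomial ring. -/
theorem redModP_of_isLocalization (H : Gp k) (σ : Type*) [Algebra (MvPolynomial σ k) H.O]
    (M : Submonoid (MvPolynomial σ k)) [IsLocalization M H.O] : RedModP p H :=
  redModP_of_redP H (RedP.of_mvPolynomial prime_of_isLb σ M)

/-- `RedModP` for a group whose coordinate ring is a tensor product. -/
theorem redModP_of_tensor (H : Gp k) {A B : Type*} [CommRing A] [CommRing B] [Algebra k A] [Algebra k B]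
    (e : A ⊗[k] B ≃+* H.O) (hA : RedP p A) (hB : RedP p B) : RedModP p H :=
  redModP_of_redP H (RedP.of_ringEquiv e (RedP.tensor hk.prime hk.res hA hB))

end lb

end Groth.Agent.ResProp.EF.K274
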